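import Cfsg.Agent.Fi23Centralizer.Main
import Cfsg.Agent.CosetCert.BaseFix

/-!
# The presented group Fi23 as a 3-transposition group

The central involution `z` of `H = ⟨a, …, i⟩` has centraliser `H`, and its product with any
conjugate is conjugate under `H` to one of two explicit products, of order at most 3.
-/

set_option autoImplicit false
set_option maxRecDepth 100000

namespace Cfsg.Agent.Fi23Transp

open Cfsg.Agent.CosetCert Cfsg.Agent.Fi23Centralizer Cfsg.Spor

/-- Being a non-split double cover passes along isomorphisms. -/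
theorem nonsplit_congr {A B K : Type*} [Group A] [Group B] [Group K] (e : A ≃* B)
    (h : Cfsg.IsNonsplitDoubleCover A K) : Cfsg.IsNonsplitDoubleCover B K := by
  have hmap : (Subgroup.center A).map (e : A →* B) = Subgroup.center B := by
    ext b
    constructor
    · rintro ⟨a, ha, rfl⟩
      rw [Subgroup.mem_center_iff]
      intro g
      obtain ⟨g, rfl⟩ := e.surjective g
      show e g * e a = e a * e g
      rw [← map_mul, ← map_mul, Subgroup.mem_center_iff.1 ha g]
    · intro hb
      refine ⟨e.symm b, ?_, e.apply_symm_apply b⟩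
      rw [SetLike.mem_coe, Subgroup.mem_center_iff]
      intro g
      apply e.injective
      rw [map_mul, map_mul, e.apply_symm_apply, Subgroup.mem_center_iff.1 hb (e g)]
  refine ⟨?_, ?_, fun L hL => h.2.2 (L.map (e.symm : B →* A)) ?_⟩
  · rw [← hmap, Subgroup.card_map_of_injective e.injective]; exact h.1
  · obtain ⟨f⟩ := h.2.1
    exact ⟨(QuotientGroup.congr _ _ e hmap).symm.trans f⟩
  · have hsymm : (Subgroup.center B).map (e.symm : B →* A) = Subgroup.center A := by
      rw [← hmap, Subgroup.map_map]
      convert Subgroup.map_id _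
      ext a
      exact e.symm_apply_apply a
    unfold Subgroup.IsComplement' at hL ⊢
    rw [← hsymm]
    constructor
    · rintro ⟨⟨_, u, hu, rfl⟩, ⟨_, v, hv, rfl⟩⟩ ⟨⟨_, u', hu', rfl⟩, ⟨_, v', hv', rfl⟩⟩ heq
      have h1 : e.symm (u * v) = e.symm (u' * v') := by
        rw [map_mul, map_mul]; exact heq
      have h2 := hL.injective (a₁ := (⟨u, hu⟩, ⟨v, hv⟩)) (a₂ := (⟨u', hu'⟩, ⟨v', hv'⟩))
        (e.symm.injective h1)
      simp only [Prod.mk.injEq, Subtype.mk.injEq] at h2
      simp [h2.1, h2.2]
    · intro a
      obtain ⟨⟨⟨u, hu⟩, ⟨v, hv⟩⟩, huv⟩ := hL.surjective (e a)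
      refine ⟨(⟨e.symm u, u, hu, rfl⟩, ⟨e.symm v, v, hv, rfl⟩), ?_⟩
      show e.symm u * e.symm v = a
      have huv' : u * v = e a := huv
      rw [← map_mul, huv', e.symm_apply_apply]

/-- The generator of a number, as letters. -/
def letters (r : List Nat) : List (Fi23.Gen × Bool) := r.map Fi23Index31671.dec

/-- The element of a list of letters. -/
abbrev el (l : List (Fi23.Gen × Bool)) : Fi23 := PresentedGroup.mk rels23 (FreeGroup.mk l)

/-- The central involution of `H`. -/
abbrev z : Fi23 := el zList

/-- A word from the base point to the root of the first suborbit. -/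
def root0 : List Nat := [7]

/-- A word from the base point to the root of the second suborbit. -/
def root1 : List Nat := [7, 6, 5, 4, 3, 2, 8, 3, 4, 5, 6, 7]

theorem letters_code : (letters root0).map
      (Data.code Fi23Index31671.data.iv Fi23Index31671.enc) = root0 ∧
    (letters root1).map (Data.code Fi23Index31671.data.iv Fi23Index31671.enc) = root1 ∧
    Fi23Index31671.data.fwd root0 0 = 1 ∧ Fi23Index31671.data.fwd root1 0 = 52 := by
  decide +kernel

theorem el_append (u v : List (Fi23.Gen × Bool)) : el (u ++ v) = el u * el v := by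
  show PresentedGroup.mk _ _ = PresentedGroup.mk _ _ * PresentedGroup.mk _ _
  rw [← map_mul, FreeGroup.mul_mk]

theorem el_invRev (u : List (Fi23.Gen × Bool)) : el (FreeGroup.invRev u) = (el u)⁻¹ := by
  show PresentedGroup.mk _ _ = (PresentedGroup.mk _ _)⁻¹
  rw [← map_inv, FreeGroup.inv_mk]

/-- The product `z r⁻¹ z r`. -/
abbrev prodWord (r : List Nat) : List (Fi23.Gen × Bool) :=
  zList ++ FreeGroup.invRev (letters r) ++ zList ++ letters r

/-- A word fixes every base point of the levels. -/
noncomputable def fixesBases (l : List (Fi23.Gen × Bool)) : Bool :=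
  ((l.map (Data.code Fi23Index31671.data.iv Fi23Index31671.enc)).all fun x =>
      Nat.blt x Fi23Index31671.data.K) &&
    (Fi23Order.levels.map Data.Level.base).all fun b => Nat.beq (Fi23Index31671.data.fwd
      (l.map (Data.code Fi23Index31671.data.iv Fi23Index31671.enc)) b) b

/-- A word moves one of the first points. -/
noncomputable def movesPoint (l : List (Fi23.Gen × Bool)) : Bool :=
  (List.range 200).any fun c => !(Nat.beq (Fi23Index31671.data.fwd
      (l.map (Data.code Fi23Index31671.data.iv Fi23Index31671.enc)) c) c)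

theorem word_checks :
    fixesBases (prodWord root0 ++ prodWord root0 ++ prodWord root0) = true ∧
    fixesBases (prodWord root1 ++ prodWord root1) = true ∧
    fixesBases (zList ++ zList) = true ∧
    movesPoint (prodWord root0) = true ∧ movesPoint (prodWord root1) = true ∧
    movesPoint zList = true := by decide +kernel

theorem main :
    (∀ g : Fi23, z * (g * z * g⁻¹) = 1 ∨ (z * (g * z * g⁻¹)) ^ 2 = 1 ∨
      (z * (g * z * g⁻¹)) ^ 3 = 1) ∧
    z * z = 1 ∧ z ≠ 1 ∧ Subgroup.centralizer ({z} : Set Fi23) = Fi23Centralizer.H := by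
  obtain ⟨φ, π, hπ, hfwd⟩ := Data.enumeration Fi23Index31671.valid Fi23Index31671.spells
  have hinj : Function.Injective φ :=
    (Data.order_eq Fi23Index31671.valid Fi23Index31671.spells φ hfwd Fi23Order.card_bound.1
      Fi23Order.card_bound.2 Fi23Order.levels Fi23Order.levels_ok (by decide +kernel)).1
  have hone : ∀ l : List (Fi23.Gen × Bool), fixesBases l = true → el l = 1 := by
    intro l hl
    simp only [fixesBases, Bool.and_eq_true] at hl
    exact Data.eq_one_of_fixes_bases Fi23Index31671.valid Fi23Index31671.spells φ hfwd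
      Fi23Order.card_bound.1 Fi23Order.card_bound.2 (by norm_num) Fi23Order.levels
      Fi23Order.levels_ok (by decide +kernel) l hl.1 hl.2
  have hne : ∀ l : List (Fi23.Gen × Bool), movesPoint l = true → el l ≠ 1 := by
    intro l hl h
    obtain ⟨c, hc, hcne⟩ := List.any_eq_true.1 hl
    have hc' : c < 31671 := lt_of_lt_of_le (List.mem_range.1 hc) (by norm_num)
    have e := hfwd l ⟨c, hc'⟩
    rw [show PresentedGroup.mk rels23 (FreeGroup.mk l) = 1 from h, map_one, inv_one,
      Equiv.Perm.one_apply] at e
    simp only [Bool.not_eq_true'] at hcne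
    rw [← show c = _ from e] at hcne
    simp at hcne
  -- the commutation of `z` with `H`
  have hzH : ∀ h ∈ Fi23Centralizer.H, h * z = z * h := by
    intro h hh
    obtain ⟨s, hs, rfl⟩ := Subgroup.mem_map.1 hh
    induction hs using Subgroup.closure_induction with
    | mem s hs =>
      rw [Set.mem_ofPred_eq, subGens_eq] at hs
      obtain ⟨x, -, rfl⟩ := List.mem_map.1 hs
      exact (z_commute x).symm.eq
    | one => simp
    | mul x y hx hy h1 h2 =>
      rw [map_mul, mul_assoc, h2 (Subgroup.mem_map_of_mem _ hy), ← mul_assoc,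
        h1 (Subgroup.mem_map_of_mem _ hx), mul_assoc]
    | inv x hx h1 =>
      rw [map_inv, inv_mul_eq_iff_eq_mul, ← mul_assoc, h1 (Subgroup.mem_map_of_mem _ hx),
        mul_inv_cancel_right]
  -- the cosets
  let q1 : Fi23 ⧸ Fi23Centralizer.H := QuotientGroup.mk 1
  have hq1 : ∀ h ∈ Fi23Centralizer.H, h • q1 = q1 := by
    intro h hh
    exact QuotientGroup.eq.2 (by simpa using hh)
  have orb0 := Data.orbit_eq Fi23Index31671.valid Fi23Index31671.spells φ π hπ hfwd
    Fi23Index31671.orbSet0 1 (get48 Fi23Index31671.orbStore0) Fi23Index31671.orb0_root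
    Fi23Index31671.orb0_ok
  have orb1 := Data.orbit_eq Fi23Index31671.valid Fi23Index31671.spells φ π hπ hfwd
    Fi23Index31671.orbSet1 52 (get48 Fi23Index31671.orbStore1) Fi23Index31671.orb1_root
    Fi23Index31671.orb1_ok
  have hfix : ∀ (O root : Nat) (hr : root < 31671), O.testBit (π.symm q1) = true →
      MulAction.orbit Fi23Centralizer.H (π ⟨root, hr⟩) = π '' {c | O.testBit c} →
      Data.count O 31671 ≠ 1 → False := by
    intro O root hr hbit horb hcount
    apply hcount
    have hmem : q1 ∈ MulAction.orbit Fi23Centralizer.H (π ⟨root, hr⟩) := by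
      rw [horb]; exact ⟨π.symm q1, hbit, π.apply_symm_apply q1⟩
    have : MulAction.orbit Fi23Centralizer.H (π ⟨root, hr⟩) = {q1} := by
      rw [← MulAction.orbit_eq_iff.2 hmem]
      ext q
      constructor
      · rintro ⟨⟨h, hh⟩, rfl⟩; exact hq1 h hh
      · rintro rfl; exact MulAction.mem_orbit_self _
    rw [this] at horb
    have h2 := congrArg Set.ncard horb
    rw [Set.ncard_singleton, Set.ncard_image_of_injective _ π.injective] at h2
    rw [Data.count_eq]
    exact h2.symm
  have hbase : π ⟨0, by decide⟩ = q1 := by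
    rcases Fi23Order.suborbits.cover (π.symm q1 : Fin _).1 (π.symm q1).2 with h | ⟨o, ho, hbit⟩
    · have : π.symm q1 = ⟨0, by decide⟩ := Fin.ext h
      rw [← this, π.apply_symm_apply]
    · simp only [Fi23Order.suborbitList, List.mem_cons, List.not_mem_nil, or_false] at ho
      rcases ho with rfl | rfl
      · exact (hfix _ _ Fi23Index31671.orb0_root.1 hbit orb0
          (by rw [Fi23Index31671.orb0_count]; decide)).elim
      · exact (hfix _ _ Fi23Index31671.orb1_root.1 hbit orb1
          (by rw [Fi23Index31671.orb1_count]; decide)).elim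
  have hroot : ∀ (r : List Nat) (root : Nat) (hr : root < 31671),
      (letters r).map (Data.code Fi23Index31671.data.iv Fi23Index31671.enc) = r →
      Fi23Index31671.data.fwd r 0 = root →
      π ⟨root, hr⟩ = QuotientGroup.mk (el (letters r))⁻¹ := by
    intro r root hr h1 h2
    have e : (φ (el (letters r)))⁻¹ ⟨0, by decide⟩ = (⟨root, hr⟩ : Fin _) :=
      Fin.ext ((hfwd (letters r) ⟨0, by decide⟩).trans (by rw [h1]; exact h2))
    refine (congrArg π e).symm.trans ?_
    rw [← map_inv]
    refine (hπ _ _).trans ?_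
    rw [hbase]
    show QuotientGroup.mk _ = _
    simp [smul_eq_mul]
  have hcases : ∀ g : Fi23, g ∈ Fi23Centralizer.H ∨
      ∃ r : List Nat, (r = root0 ∨ r = root1) ∧ ∃ h ∈ Fi23Centralizer.H,
        ∃ h' ∈ Fi23Centralizer.H, g = h * (el (letters r))⁻¹ * h' := by
    intro g
    let q : Fi23 ⧸ Fi23Centralizer.H := QuotientGroup.mk g
    rcases Fi23Order.suborbits.cover (π.symm q : Fin _).1 (π.symm q).2 with h | ⟨o, ho, hbit⟩
    · left
      have : π.symm q = ⟨0, by decide⟩ := Fin.ext h
      have h2 : QuotientGroup.mk g = q1 := by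
        rw [← hbase, ← this, π.apply_symm_apply]
      simpa [q1] using QuotientGroup.eq.1 h2.symm
    · right
      have key : ∀ (r : List Nat) (root : Nat) (hr : root < 31671) (O : Nat),
          O.testBit (π.symm q) = true →
          (letters r).map (Data.code Fi23Index31671.data.iv Fi23Index31671.enc) = r →
          Fi23Index31671.data.fwd r 0 = root →
          MulAction.orbit Fi23Centralizer.H (π ⟨root, hr⟩) = π '' {c | O.testBit c} →
          ∃ h ∈ Fi23Centralizer.H, ∃ h' ∈ Fi23Centralizer.H,
            g = h * (el (letters r))⁻¹ * h' := by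
        intro r root hr O hO h1 h2 horb
        have hmem : q ∈ MulAction.orbit Fi23Centralizer.H (π ⟨root, hr⟩) := by
          rw [horb]; exact ⟨π.symm q, hO, π.apply_symm_apply q⟩
        obtain ⟨⟨h, hh⟩, hq⟩ := hmem
        rw [hroot r root hr h1 h2] at hq
        exact ⟨h, hh, _, QuotientGroup.eq.1 hq, by
          show g = h * (el (letters r))⁻¹ * ((h * (el (letters r))⁻¹)⁻¹ * g)
          rw [mul_inv_cancel_left]⟩
      simp only [Fi23Order.suborbitList, List.mem_cons, List.not_mem_nil, or_false] at ho
      rcases ho with rfl | rfl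
      · exact ⟨root0, Or.inl rfl, key root0 1 Fi23Index31671.orb0_root.1 _ hbit letters_code.1
          letters_code.2.2.1 orb0⟩
      · exact ⟨root1, Or.inr rfl, key root1 52 Fi23Index31671.orb1_root.1 _ hbit letters_code.2.1
          letters_code.2.2.2 orb1⟩
  have hp0 : el (prodWord root0) ^ 3 = 1 := by
    rw [show el (prodWord root0) ^ 3 =
      el (prodWord root0 ++ prodWord root0 ++ prodWord root0) by
        rw [el_append (prodWord root0 ++ prodWord root0) (prodWord root0),
          el_append (prodWord root0) (prodWord root0), pow_succ, pow_two]]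
    exact hone _ word_checks.1
  have hp1 : el (prodWord root1) ^ 2 = 1 := by
    rw [show el (prodWord root1) ^ 2 = el (prodWord root1 ++ prodWord root1) by
        rw [el_append (prodWord root1) (prodWord root1), pow_two]]
    exact hone _ word_checks.2.1
  have hconj : ∀ (h h' : Fi23) (r : List Nat), h ∈ Fi23Centralizer.H → h' ∈ Fi23Centralizer.H →
      z * (h * (el (letters r))⁻¹ * h' * z * (h * (el (letters r))⁻¹ * h')⁻¹) =
        h * el (prodWord r) * h⁻¹ := by
    intro h h' r hh hh'
    have e1 : el (prodWord r) = z * (el (letters r))⁻¹ * z * el (letters r) := by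
      rw [el_append, el_append, el_append, el_invRev]
    have e2 : h' * z * h'⁻¹ = z := by rw [hzH h' hh', mul_inv_cancel_right]
    calc z * (h * (el (letters r))⁻¹ * h' * z * (h * (el (letters r))⁻¹ * h')⁻¹)
        = (z * h) * (el (letters r))⁻¹ * (h' * z * h'⁻¹) * el (letters r) * h⁻¹ := by group
      _ = h * el (prodWord r) * h⁻¹ := by rw [e2, ← hzH h hh, e1]; group
  have hzz : z * z = 1 := by
    rw [← el_append]
    exact hone _ word_checks.2.2.1
  refine ⟨fun g => ?_, hzz, ?_, ?_⟩
  · rcases hcases g with hg | ⟨r, hr, h, hh, h', hh', rfl⟩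
    · left
      rw [hzH g hg, mul_inv_cancel_right, hzz]
    · rw [hconj h h' r hh hh', conj_pow, conj_pow]
      rcases hr with rfl | rfl
      · right; right
        rw [hp0]; group
      · right; left
        rw [hp1]; group
  · exact hne zList word_checks.2.2.2.2.2
  · apply le_antisymm
    · intro g hg
      rw [Subgroup.mem_centralizer_singleton_iff] at hg
      rcases hcases g with h | ⟨r, hr, h, hh, h', hh', rfl⟩
      · exact h
      · exfalso
        have e := hconj h h' r hh hh'
        rw [hg, mul_inv_cancel_right, hzz] at e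
        have e2 : el (prodWord r) = 1 := by
          calc el (prodWord r) = h⁻¹ * (h * el (prodWord r) * h⁻¹) * h := by group
            _ = 1 := by rw [← e]; group
        rcases hr with rfl | rfl
        · exact hne _ word_checks.2.2.2.1 e2
        · exact hne _ word_checks.2.2.2.2.1 e2
    · intro g hg
      exact Subgroup.mem_centralizer_singleton_iff.2 (hzH g hg)

/-- Fi23 is a 3-transposition group with the stated data. -/
theorem three_transposition :
    ∃ D : Set Fi23, Cfsg.IsThreeTranspositionClass D ∧ Nat.card D = 31671 ∧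
      ∀ d ∈ D, Cfsg.IsNonsplitDoubleCover (Subgroup.centralizer ({d} : Set Fi23)) Fi22 := by
  obtain ⟨hprod, hzz, hz1, hcent⟩ := main
  have hdbl : ∀ g : Fi23, (g * z * g⁻¹) * (g * z * g⁻¹) = 1 := fun g => by
    calc (g * z * g⁻¹) * (g * z * g⁻¹) = g * (z * z) * g⁻¹ := by group
      _ = 1 := by rw [hzz]; group
  have hmem : ∀ d, d ∈ conjugatesOf z ↔ ∃ g : Fi23, g * z * g⁻¹ = d := fun d => isConj_iff
  refine ⟨conjugatesOf z, ⟨⟨?_, ?_⟩, ⟨z, IsConj.refl _, rfl⟩, ?_⟩, ?_, ?_⟩
  · intro d hd
    obtain ⟨g, rfl⟩ := (hmem d).1 hd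
    refine orderOf_eq_prime (by rw [pow_two]; exact hdbl g) fun h => hz1 ?_
    calc z = g⁻¹ * (g * z * g⁻¹) * g := by group
      _ = 1 := by rw [h]; group
  · intro d hd e he
    obtain ⟨g, rfl⟩ := (hmem d).1 hd
    obtain ⟨k, rfl⟩ := (hmem e).1 he
    have e1 : g * z * g⁻¹ * (k * z * k⁻¹) =
        g * (z * ((g⁻¹ * k) * z * (g⁻¹ * k)⁻¹)) * g⁻¹ := by group
    rw [e1, conj_pow, conj_pow]
    rcases hprod (g⁻¹ * k) with h | h | h
    · left; rw [h, one_pow]; group
    · left; rw [h]; group
    · right; rw [h]; group
  · have hn : (Subgroup.closure (conjugatesOf z)).Normal := by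
      constructor
      intro a ha g
      induction ha using Subgroup.closure_induction with
      | mem x hx =>
        obtain ⟨k, rfl⟩ := (hmem x).1 hx
        refine Subgroup.subset_closure ((hmem _).2 ⟨g * k, ?_⟩)
        group
      | one => simp
      | mul x y _ _ hx hy =>
        have := Subgroup.mul_mem _ hx hy
        rwa [show g * x * g⁻¹ * (g * y * g⁻¹) = g * (x * y) * g⁻¹ by group] at this
      | inv x _ hx =>
        have := Subgroup.inv_mem _ hx
        rwa [show (g * x * g⁻¹)⁻¹ = g * x⁻¹ * g⁻¹ by group] at this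
    have : IsSimpleGroup Fi23 := Fi23Order.order_and_simple.1
    rcases hn.eq_bot_or_eq_top with h | h
    · exfalso
      exact hz1 (Subgroup.mem_bot.1 (h ▸ Subgroup.subset_closure (IsConj.refl z)))
    · exact h
  · have hidx : Fi23Centralizer.H.index = 31671 := Fi23Index31671.index_val
    rw [← hidx, Subgroup.index]
    refine (Nat.card_eq_of_bijective (fun q : Fi23 ⧸ Fi23Centralizer.H =>
      (⟨q.out * z * q.out⁻¹, (hmem _).2 ⟨q.out, rfl⟩⟩ : conjugatesOf z)) ⟨?_, ?_⟩).symm
    · intro p q hpq
      have h : p.out * z * p.out⁻¹ = q.out * z * q.out⁻¹ := congrArg Subtype.val hpq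
      rw [← QuotientGroup.out_eq' p, ← QuotientGroup.out_eq' q, QuotientGroup.eq]
      apply hcent.le
      rw [Subgroup.mem_centralizer_singleton_iff]
      calc p.out⁻¹ * q.out * z = p.out⁻¹ * (q.out * z * q.out⁻¹) * q.out := by group
        _ = z * (p.out⁻¹ * q.out) := by rw [← h]; group
    · rintro ⟨d, hd⟩
      obtain ⟨g, rfl⟩ := (hmem d).1 hd
      obtain ⟨⟨h, hh⟩, hout⟩ := QuotientGroup.mk_out_eq_mul Fi23Centralizer.H g
      refine ⟨QuotientGroup.mk g, Subtype.ext ?_⟩
      show (QuotientGroup.mk g : Fi23 ⧸ Fi23Centralizer.H).out * z * _ = _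
      rw [hout]
      have e : h * z * h⁻¹ = z := by
        rw [← hcent, Subgroup.mem_centralizer_singleton_iff] at hh
        rw [hh, mul_inv_cancel_right]
      calc g * h * z * (g * h)⁻¹ = g * (h * z * h⁻¹) * g⁻¹ := by group
        _ = g * z * g⁻¹ := by rw [e]
  · intro d hd
    obtain ⟨g, rfl⟩ := (hmem d).1 hd
    have hmap : Fi23Centralizer.H.map ((MulAut.conj g).toMonoidHom) =
        Subgroup.centralizer ({g * z * g⁻¹} : Set Fi23) := by
      rw [← hcent]
      ext x
      rw [Subgroup.mem_map_equiv, Subgroup.mem_centralizer_singleton_iff,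
        Subgroup.mem_centralizer_singleton_iff, MulAut.conj_symm_apply]
      constructor
      · intro h
        calc x * (g * z * g⁻¹) = g * ((g⁻¹ * x * g) * z) * g⁻¹ := by group
          _ = g * z * g⁻¹ * x := by rw [h]; group
      · intro h
        calc g⁻¹ * x * g * z = g⁻¹ * (x * (g * z * g⁻¹)) * g := by group
          _ = z * (g⁻¹ * x * g) := by rw [h]; group
    exact nonsplit_congr ((Fi23Centralizer.H.equivMapOfInjective _
      (MulAut.conj g).injective).trans (MulEquiv.subgroupCongr hmap))
      Fi23Centralizer.nonsplit_double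

end Cfsg.Agent.Fi23Transp
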